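import Cfsg.Agent.OddHalf.D3.BTwo.Dih
import Cfsg.Agent.OddHalf.D3.RigidSyl_m3
import Cfsg.Agent.OddHalf.D4.Spor.LatFour_m3
import Cfsg.Prelude.Def_CaseTheorems
import Cfsg.Agent.OddHalf.D3.BEven.Split_m3
import Cfsg.Agent.FastGrp
import Cfsg.Agent.Prune
set_option linter.all false

section
prune_inst 0x7f00000000000000000000000000000000000000000000000000000000000000000000000000000000000000000000000000000000000000000000000000000000000000000000000000000000000000003fffffffffffffffffffffffffffbeffbdffffffff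

-- part: OddHalf/D3/BTwo/Final
section
set_option linter.all false
open scoped Cfsg.Agent.FastGrp

/-!
# ODD D3 (b), `n = 2`, case (B2) (bb ODD 9609): (9) and the end
-/

set_option autoImplicit false

namespace Cfsg.Agent.OddHalf.D3.BTwo

open Cfsg.Agent.OddHalf.D3.ThreeDefs Cfsg.Agent.OddHalf.D3.ThreeFam Cfsg.Agent.OddHalf.D3.ThreeMain
  Cfsg.Agent.OddHalf.D3.ThreeEnd
open scoped commutatorElement

universe u

/-- the statement of S0483 (Gorenstein-Walter), in the universe `u` -/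
def GW : Prop := ∀ (X : Type u) [Group X] [Finite X] [Group.IsPerfect X] (S : Sylow 2 X) (n : ℕ), 2 ≤ n →
  Nonempty ((S : Subgroup X) ≃* DihedralGroup n) →
    (∃ (F : Type) (_ : Field F) (_ : Fintype F), Odd (Fintype.card F) ∧ 3 < Fintype.card F ∧
        Nonempty (X ⧸ Cfsg.oddCore X ≃* Matrix.ProjectiveSpecialLinearGroup (Fin 2) F)) ∨
      Nonempty (X ⧸ Cfsg.oddCore X ≃* alternatingGroup (Fin 7))

variable {G : Type u} [Group G]

theorem SylIn.toSylow [Finite G] {K R : Subgroup G} (h : SylIn K R) : ∃ S : Sylow 2 K, (S : Subgroup K) = R.subgroupOf K := by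
  have hR' : IsPGroup 2 (R.subgroupOf K) := h.two.comap_subtype
  obtain ⟨P, hP⟩ := hR'.exists_le_sylow
  refine ⟨P, ?_⟩
  have h1 : Nat.card ((P : Subgroup K).map K.subtype) ≤ Nat.card R :=
    h.max _ (Subgroup.map_subtype_le _) (P.isPGroup'.map _)
  have h2 : Nat.card ((P : Subgroup K).map K.subtype) = Nat.card (P : Subgroup K) :=
    Nat.card_congr ((P : Subgroup K).equivMapOfInjective _ (Subgroup.subtype_injective K)).symm.toEquiv
  have h3 : Nat.card (R.subgroupOf K) = Nat.card R := Nat.card_congr (Subgroup.subgroupOfEquivOfLe h.le).toEquiv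
  symm
  exact Subgroup.eq_of_le_of_card_ge hP (by rw [← h2, h3]; exact h1)

/-- recognition of a simple group with dihedral Sylow 2-subgroups -/
theorem recog (hgw : GW.{u}) {K : Type u} [Group K] [Finite K] (hs : IsSimpleGroup K)
    (hna : ∃ x y : K, x * y ≠ y * x) (h2 : 2 ∣ Nat.card K) (S : Sylow 2 K) (n : ℕ) (hn : 2 ≤ n)
    (hS : Nonempty ((S : Subgroup K) ≃* DihedralGroup n)) :
    (∃ (F : Type) (_ : Field F) (_ : Fintype F), Odd (Fintype.card F) ∧ 5 ≤ Fintype.card F ∧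
      Nonempty (K ≃* Matrix.ProjectiveSpecialLinearGroup (Fin 2) F)) ∨
      Nonempty (K ≃* ↥(alternatingGroup (Fin 7))) := by
  have hperf : Group.IsPerfect K := by
    constructor
    rcases hs.eq_bot_or_eq_top_of_normal (commutator K) inferInstance with h | h
    · exfalso
      obtain ⟨x, y, hxy⟩ := hna
      have h1 : ⁅x, y⁆ ∈ commutator K := Subgroup.commutator_mem_commutator (Subgroup.mem_top _) (Subgroup.mem_top _)
      rw [h, Subgroup.mem_bot] at h1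
      exact hxy (comm_eq_one h1)
    · exact h
  have hO : Cfsg.oddCore K = ⊥ := by
    refine (sSup_eq_bot).2 ?_
    rintro N ⟨hN, hc⟩
    rcases hs.eq_bot_or_eq_top_of_normal N hN with h | h
    · exact h
    · exfalso
      subst h
      rw [Subgroup.card_top] at hc
      have := Nat.Coprime.eq_one_of_dvd (Nat.Coprime.symm hc) h2
      omega
  have e : (K ⧸ Cfsg.oddCore K) ≃* K :=
    (QuotientGroup.quotientMulEquivOfEq hO).trans QuotientGroup.quotientBot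
  rcases hgw K S n hn hS with ⟨F, hF, hF', hodd, h3, ⟨f⟩⟩ | ⟨⟨f⟩⟩
  · left
    refine ⟨F, hF, hF', hodd, ?_, ⟨e.symm.trans f⟩⟩
    obtain ⟨m, hm⟩ := hodd
    omega
  · right
    exact ⟨e.symm.trans f⟩

variable {L : Bool → Bool → Subgroup G} {T : Subgroup G} {g : Bool → Bool → G}

namespace BD

variable [Finite G]

/-- `T` is Sylow in `NL L` -/
theorem sylNL (h : BD L T g) : SylIn (NL L) T := by
  obtain ⟨T', hT', hTT'⟩ := SylIn.exists_le h.two h.T_le
  have h1 : T' ≤ T := h.max T' hT'.two hTT' (fun q hq => hT'.le hq)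
  have h2 : T = T' := le_antisymm hTT' h1
  rw [h2]; exact hT'

/-- **the end of (B2)** -/
theorem contra (h : BD L T g) (hgw : GW.{u}) (hs : IsSimpleGroup (L false false)) : False := by
  haveI : Fact (Nat.Prime 2) := ⟨Nat.prime_two⟩
  obtain ⟨a, i, b, k, k', i', hab, hk, hi, hsa⟩ : ∃ a i b k k' i' : Bool, a ≠ b ∧ k ≠ k' ∧ i ≠ i' ∧
      IsSimpleGroup (L a i) := ⟨false, false, true, false, true, true, by decide, by decide, by decide, hs⟩
  obtain ⟨R, hR, hRT, hgR, hPR⟩ := h.exists_R a i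
  obtain ⟨m, hm, ⟨ε⟩⟩ := h.dihedral hR hRT hgR hPR
  obtain ⟨S, hS⟩ := hR.toSylow
  obtain ⟨z, hz, hzL, hz2, hz1⟩ := h.exists_inv a i
  obtain ⟨l, hl, hlz, -⟩ := h.zst a i z hzL hz2 hz1
  have hrec := recog hgw hsa ⟨⟨l, hl⟩, ⟨z, hzL⟩, fun h0 => hlz (by
      have h1 : l * z = z * l := congrArg Subtype.val h0
      rw [h1]; group)⟩ (by
      have h1 : orderOf (⟨z, hzL⟩ : L a i) = 2 := by
        rw [Subgroup.orderOf_mk]
        exact orderOf_eq_prime (by rw [pow_two]; exact hz2) hz1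
      rw [← h1]
      exact orderOf_dvd_natCard _) S m hm ⟨by rw [hS]; exact (Subgroup.subgroupOfEquivOfLe hR.le).trans ε⟩
  -- the elements `e1`, `e2`
  obtain ⟨e1, he1⟩ : ∃ e1, e1 = ⁅g b k, z⁆ := ⟨_, rfl⟩
  obtain ⟨e2, he2⟩ : ∃ e2, e2 = ⁅g b k', z⁆ := ⟨_, rfl⟩
  have he1T : e1 ∈ T := by rw [he1]; exact h.cm_T hz b k
  have he1L : e1 ∈ L b k := by rw [he1]; exact h.cm_L hz b k
  have he2T : e2 ∈ T := by rw [he2]; exact h.cm_T hz b k'
  have he2L : e2 ∈ L b k' := by rw [he2]; exact h.cm_L hz b k'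
  have he1s : e1 * e1 = 1 := h.sq_one he1T he1L
  have he11 : e1 ≠ 1 := by
    rw [he1]
    intro h0
    exact hz1 ((h.cm_one (Ne.symm hab) hz hzL).mp h0)
  have he21 : e2 ≠ 1 := by
    rw [he2]
    intro h0
    exact hz1 ((h.cm_one (Ne.symm hab) hz hzL).mp h0)
  have hr1 : ⁅g a i, e1⁆ = z := by rw [he1]; exact (h.coord hab hk hi hz hzL).1
  have hr2 : ⁅g a i, e2⁆ = z := by rw [he2]; exact (h.coord hab (Ne.symm hk) hi hz hzL).1
  -- the involution `z2`
  obtain ⟨z2, hz2'⟩ : ∃ z2, z2 = g b k * g b k' * z * (g b k * g b k')⁻¹ := ⟨_, rfl⟩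
  have hz2T : z2 ∈ T := by rw [hz2']; exact h.j_T hz
  have hz2L : z2 ∈ L a i' := by rw [hz2']; exact h.j_L hab hk hi hzL
  have hz2e : e1 * e2 * z = z2 := by rw [hz2', h.j_conj hk hz, he1, he2]
  have hK : cj e1 (L a i) = L a i := h.nrm e1 he1T a i
  refine NineFact.nine_card hrec (u := au hK) ?_ ?_ ((Subgroup.centralizer {e1}).subgroupOf (L a i)) ?_ ?_
    (z := ⟨z, hzL⟩) (Subtype.ext hz2) (fun h0 => hz1 (congrArg Subtype.val h0)) ?_ ?_
  · -- `u * u = 1`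
    ext r
    rw [MulAut.mul_apply, au_apply, au_apply, MulAut.one_apply]
    calc e1 * (e1 * r * e1⁻¹) * e1⁻¹ = (e1 * e1) * r * (e1 * e1)⁻¹ := by group
      _ = r := by rw [he1s]; group
  · -- `u ≠ 1`
    intro h0
    have h1 : ((au hK ⟨g a i, h.gm a i⟩ : L a i) : G) = g a i := by rw [h0]; rfl
    rw [au_apply] at h1
    have h2 : e1 * g a i = g a i * e1 := mul_inv_eq_iff_eq_mul.mp h1
    exact he11 ((h.cm_one hab he1T he1L).mp (comm_one_of h2.symm))
  · intro x hx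
    rw [Subgroup.mem_subgroupOf, Subgroup.mem_centralizer_singleton_iff]
    have h1 : ((au hK x : L a i) : G) = x := by rw [hx]
    rw [au_apply] at h1
    exact (mul_inv_eq_iff_eq_mul.mp h1).symm
  · -- the 2-part of the centralizer
    intro h4
    obtain ⟨Q, hQ⟩ := Sylow.exists_subgroup_card_pow_prime 2 (n := 2) (G := ((Subgroup.centralizer {e1}).subgroupOf (L a i))) h4
    let Q0 : Subgroup G := (Q.map ((Subgroup.centralizer {e1}).subgroupOf (L a i)).subtype).map (L a i).subtype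
    have hQ0 : ∀ q ∈ Q0, q ∈ L a i ∧ q * e1 = e1 * q := by
      rintro _ ⟨_, ⟨q, -, rfl⟩, rfl⟩
      refine ⟨(q : L a i).2, ?_⟩
      have := q.2
      rw [Subgroup.mem_subgroupOf, Subgroup.mem_centralizer_singleton_iff] at this
      exact this
    have hQ0c : Nat.card Q0 = 4 := by
      rw [Nat.card_congr ((Q.map ((Subgroup.centralizer {e1}).subgroupOf (L a i)).subtype).equivMapOfInjective _
        (Subgroup.subtype_injective _)).symm.toEquiv, Nat.card_congr (Q.equivMapOfInjective _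
        (Subgroup.subtype_injective _)).symm.toEquiv, hQ]
      norm_num
    have hQ02 : IsPGroup 2 Q0 := IsPGroup.of_card (n := 2) (by rw [hQ0c]; norm_num)
    have hQ0N : Q0 ≤ NL L := by
      intro q hq c l'
      obtain ⟨h1, h2⟩ := hQ0 q hq
      by_cases hc : a = c
      · subst hc; exact h.cj_same h1 l'
      · have : b = c := bool_third hab hc
        subst this
        exact h.cen2 h.two he1T he1L he11 h2 l'
    obtain ⟨c, hc, hcQ⟩ := h.sylNL.conj hQ0N hQ02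
    have h5 : cj c Q0 ≤ T ⊓ L a i := by
      intro x hx
      rw [mem_cj] at hx
      have e : c * (c⁻¹ * x * c) * c⁻¹ = x := by group
      refine ⟨by rw [← e]; exact hcQ _ hx, ?_⟩
      rw [← e]
      exact conj_mem_of_cj (hc a i) (hQ0 _ hx).1
    have h6 : Nat.card (cj c Q0) ≤ Nat.card ↥(T ⊓ L a i) :=
      Nat.card_le_card_of_injective _ (Subgroup.inclusion_injective h5)
    rw [card_cj, hQ0c, h.card_two a i] at h6
    omega
  · -- `u z = z`
    apply Subtype.ext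
    rw [au_apply]
    change e1 * z * e1⁻¹ = z
    have : e1 * z = z * e1 := h.cT he1T he1L hz hzL
    rw [this]; group
  · -- the commutators
    rintro ⟨x, hx⟩ ⟨y, hy⟩ hxu hyu
    have h1 : e1 * x * e1⁻¹ = x := congrArg Subtype.val hxu
    have h2 : z * (e1 * y * e1⁻¹) * z⁻¹ = y := congrArg Subtype.val hyu
    have h3 : x * e1 = e1 * x := (mul_inv_eq_iff_eq_mul.mp h1).symm
    have h4 : ⁅x, z⁆ ∈ L b k' := by
      have := (h.key (Ne.symm hab) hi hk he1T he1L he11 hx h3).2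
      rwa [hr1] at this
    have h5 : y * (z * e1) = (z * e1) * y := by
      have : (z * e1) * y * (z * e1)⁻¹ = y := by
        calc (z * e1) * y * (z * e1)⁻¹ = z * (e1 * y * e1⁻¹) * z⁻¹ := by group
          _ = y := h2
      exact (mul_inv_eq_iff_eq_mul.mp this).symm
    have h6 : e2 = z2 * (z * e1)⁻¹ := by
      have h7 : e1 * z2 = z2 * e1 := h.cT he1T he1L hz2T hz2L
      have h8 : e2 = e1⁻¹ * z2 * z⁻¹ := by rw [← hz2e]; group
      rw [h8, mul_inv_rev]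
      have h9 : e1⁻¹ * z2 = z2 * e1⁻¹ := by
        have : Commute e1 z2 := h7
        exact this.inv_left.eq
      rw [h9, mul_assoc]
    have h7 : y * e2 = e2 * y := by
      have h8 : y * z2 = z2 * y := h.comm a i i' hi _ hy _ hz2L
      have h9 : y * (z * e1)⁻¹ = (z * e1)⁻¹ * y := by
        have : Commute y (z * e1) := h5
        exact this.inv_right.eq
      rw [h6, ← mul_assoc, h8, mul_assoc, h9, mul_assoc]
    have h8 : ⁅y, z⁆ ∈ L b k := by
      have := (h.key (Ne.symm hab) hi (Ne.symm hk) he2T he2L he21 hy h7).2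
      rwa [hr2] at this
    apply Subtype.ext
    change ⁅x, z⁆ * ⁅y, z⁆ = ⁅y, z⁆ * ⁅x, z⁆
    exact h.comm b k' k (Ne.symm hk) _ h4 _ h8

end BD

/-! ### From the frame -/

open Cfsg.Agent.OddHalf.D3.Swap Cfsg.Agent.OddHalf.D3.TwoCfg Cfsg.Agent.OddHalf.D3.TwoNF
open Cfsg.Agent.OddHalf.D3.TwoKey

variable {𝓒 : Set (Set (Subgroup G))}

/-- `cj y A = B` maps the class of `A` to the class of `B` -/
theorem cjs_of_cj (F : Fam 𝓒) {Λ Λ' : Set (Subgroup G)} (hΛ : Λ ∈ 𝓒) (hΛ' : Λ' ∈ 𝓒) {A B : Subgroup G} (hA : A ∈ Λ)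
    (hB : B ∈ Λ') {y : G} (h : cj y A = B) : cjs y Λ = Λ' := by
  refine class_unique F (F.conj y Λ hΛ) hΛ' (A := B) ?_ hB
  rw [← h]
  exact cj_mem_cjs hA

/-- the other members -/
theorem cj_other (F : Fam2 𝓒) {Λ Λ' : Set (Subgroup G)} (hΛ : Λ ∈ 𝓒) (hΛ' : Λ' ∈ 𝓒) {A A' B B' : Subgroup G}
    (hA : A ∈ Λ) (hA' : A' ∈ Λ) (hAA : A ≠ A') (hB : B ∈ Λ') (hB' : B' ∈ Λ') (hBB : B ≠ B') {y : G}
    (h : cj y A = B) : cj y A' = B' := by
  have h1 := cjs_of_cj F.toFam hΛ hΛ' hA hB h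
  have h2 : cj y A' ∈ Λ' := by rw [← h1]; exact cj_mem_cjs hA'
  have h3 : cj y A' ≠ B := by
    rw [← h]
    intro h0
    exact hAA (cj_injective y h0).symm
  rcases F.le2 Λ' hΛ' B hB B' hB' (cj y A') h2 with h4 | h4 | h4
  · exact absurd h4 hBB
  · exact absurd h4.symm h3
  · exact h4.symm

/-- fusion of an involution -/
theorem cj_of_fus (F : Fam2 𝓒) {Λ Λ' : Set (Subgroup G)} (hΛ : Λ ∈ 𝓒) (hΛ' : Λ' ∈ 𝓒) {A B : Subgroup G} (hA : A ∈ Λ)
    (hB : B ∈ Λ') {x y : G} (hx : x ∈ A) (hx2 : x * x = 1) (hx1 : x ≠ 1) (h : y * x * y⁻¹ ∈ B) : cj y A = B := by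
  have h2 : y * x * y⁻¹ * (y * x * y⁻¹) = 1 := by
    calc y * x * y⁻¹ * (y * x * y⁻¹) = y * (x * x) * y⁻¹ := by group
      _ = 1 := by rw [hx2]; group
  have h1 : y * x * y⁻¹ ≠ 1 := by
    intro h0
    apply hx1
    calc x = y⁻¹ * (y * x * y⁻¹) * y := by group
      _ = 1 := by rw [h0]; group
  have e : cjs y Λ = Λ' := F.uniq _ (F.conj y Λ hΛ) Λ' hΛ' (y * x * y⁻¹)
    ((F.inU_of_mem hΛ hA hx hx2 hx1).conj y) (F.inU_of_mem hΛ' hB h h2 h1)
  have h3 : cj y A ∈ Λ' := by rw [← e]; exact cj_mem_cjs hA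
  by_contra hne
  exact h1 (F.inter_same hΛ' h3 hB hne (conj_mem_cj hx) h h2)

/-- **the case (B2) of the text is impossible** -/
theorem bb_false [Finite G] (hgw : GW.{u}) (F : Fam2 𝓒) {Q : Subgroup G} (C : NF 𝓒 Q) : False := by
  obtain ⟨Λ, hΛ, Λ', hΛ', hne, hQΛ, hQΛ', L1, hL1, L2, hL2, M1, hM1, M2, hM2, hL21, hM21, g1, g2, h1, h2, w1, w2, v1, v2,
    s1, s2⟩ := TwoBB.exists_conf F C
  let L : Bool → Bool → Subgroup G := fun a i => bif a then (bif i then M2 else M1) else (bif i then L2 else L1)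
  let gg : Bool → Bool → G := fun a i => bif a then (bif i then h2 else h1) else (bif i then g2 else g1)
  let Cl : Bool → Set (Subgroup G) := fun a => bif a then Λ' else Λ
  have hCl : ∀ a, Cl a ∈ 𝓒 := by intro a; cases a <;> assumption
  have hmem : ∀ a i, L a i ∈ Cl a := by intro a i; cases a <;> cases i <;> assumption
  have hdiff : ∀ a i i', i ≠ i' → L a i ≠ L a i' := by
    intro a i i' hi
    cases a <;> cases i <;> cases i' <;> first | exact absurd rfl hi | exact hL21 | exact Ne.symm hL21 | exact hM21 | exact Ne.symm hM21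
  have hCne : ∀ a b, Cl a = Cl b → a = b := by
    intro a b hab
    cases a <;> cases b <;> first | rfl | exact absurd hab hne | exact absurd hab.symm hne
  have hwit : ∀ a i, Wit Q (L a i) (gg a i) := by intro a i; cases a <;> cases i <;> assumption
  have hQ : ∀ a, Q ≤ TwoCfg.Nm (Cl a) := by intro a; cases a <;> assumption
  have hgcomm : ∀ a i i', i ≠ i' → gg a i * gg a i' = gg a i' * gg a i := by
    intro a i i' hi
    exact F.comm (Cl a) (hCl a) (L a i) (hmem a i) (L a i') (hmem a i') (hdiff a i i' hi) _ (hwit a i).mem _ (hwit a i').mem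
  have hsw : ∀ a b, a ≠ b → cj (gg b false * gg b true) (L a false) = L a true := by
    intro a b hab
    cases a <;> cases b <;> first | exact absurd rfl hab | exact s1 | exact s2
  have B : BD L Q gg := by
    refine { comm := ?_, inj := ?_, fus := ?_, zst := ?_, two := C.pg, nrm := ?_, max := ?_, ne := ?_, gm := ?_, gT := ?_,
             gn := ?_, gs := ?_, sw := ?_ }
    · intro a i i' hi
      exact F.comm (Cl a) (hCl a) (L a i) (hmem a i) (L a i') (hmem a i') (hdiff a i i' hi)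
    · intro a i b k h0
      have hab : a = b := hCne a b (class_unique F.toFam (hCl a) (hCl b) (hmem a i) (by rw [h0]; exact hmem b k))
      subst hab
      refine ⟨rfl, ?_⟩
      by_contra hik
      exact hdiff a i k hik h0
    · intro a i b k x y hx hx2 hx1 hy
      have h0 := cj_of_fus F (hCl a) (hCl b) (hmem a i) (hmem b k) hx hx2 hx1 hy
      exact ⟨h0, fun i' k' hi hk => cj_other F (hCl a) (hCl b) (hmem a i) (hmem a i') (hdiff a i i' hi) (hmem b k)
        (hmem b k') (hdiff b k k' hk) h0⟩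
    · intro a i z hz hz2 hz1
      refine F.zst (Cl a) (hCl a) (L a i) (hmem a i) z hz2 (cj_eq_of_mem hz) ?_
      by_contra hcon
      push Not at hcon
      exact hz1 (F.cent (Cl a) (hCl a) (L a i) (hmem a i) z hz hz2 hcon)
    · intro t ht a i
      exact hQ a ht (L a i) (hmem a i)
    · intro R hR hQR hRn
      refine C.toCfg.le_of_two (hCl false) (hCl true) (fun h0 => absurd (hCne _ _ h0) (by decide)) (hQ false) (hQ true) hR hQR
        ?_ ?_
      · intro q hq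
        exact mem_Nm_of_cj F (hCl false) (hmem false false) (hRn q hq false false)
      · intro q hq
        exact mem_Nm_of_cj F (hCl true) (hmem true false) (hRn q hq true false)
    · obtain ⟨x, hx, hxQ, -, hx1⟩ := C.inv (Cl false) (hCl false) (hQ false) (L false false) (hmem false false)
      exact ⟨false, false, x, hxQ, hx, hx1⟩
    · exact fun a i => (hwit a i).mem
    · exact fun a i => (hwit a i).norm
    · exact fun a i => (hwit a i).not
    · exact fun a i => (hwit a i).sq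
    · intro a b hab k k' hk i i' hi
      have e : gg b k * gg b k' = gg b false * gg b true := by
        cases k <;> cases k'
        · exact absurd rfl hk
        · rfl
        · exact hgcomm b true false (by decide)
        · exact absurd rfl hk
      rw [e]
      cases i <;> cases i'
      · exact absurd rfl hi
      · exact hsw a b hab
      · exact cj_other F (hCl a) (hCl a) (hmem a false) (hmem a true) (hdiff a _ _ (by decide)) (hmem a true) (hmem a false)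
          (hdiff a _ _ (by decide)) (hsw a b hab)
      · exact absurd rfl hi
  exact B.contra hgw (F.simple (Cl false) (hCl false) _ (hmem false false))

end Cfsg.Agent.OddHalf.D3.BTwo
end

-- part: OddHalf/D3/BEven/FrobE
section
set_option linter.all false
open scoped Cfsg.Agent.FastGrp

/-!
# ODD D3 (iii), even centre, `n = 2`, (mv)-world, (beta2): (d) of helper159's text (bb ODD 10707)
-/

set_option autoImplicit false

namespace Cfsg.Agent.OddHalf.D3.BEven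

open Cfsg.Agent.OddHalf.D3.ThreeDefs Cfsg.Agent.OddHalf.D3.ThreeFam Cfsg.Agent.OddHalf.D3.ThreeMain
  Cfsg.Agent.OddHalf.D3.ThreeEnd
open Cfsg.Agent.OddHalf.D3.BTwo (comm_mem comm_mem' conj_eq_comm_mul comm_eq_one comm_one_of exists_two exists_fix Gd
  comm_mul_of dbl mem_dbl bool_third dich)
open scoped commutatorElement

universe u

variable {G : Type u} [Group G]

/-- `D a = T ∩ L a 0 ∩ L a 1` -/
def DD (L : Bool → Bool → Subgroup G) (T : Subgroup G) (a : Bool) : Subgroup G := T ⊓ (L a false ⊓ L a true)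

theorem mem_DD {L : Bool → Bool → Subgroup G} {T : Subgroup G} {a : Bool} {x : G} :
    x ∈ DD L T a ↔ x ∈ T ∧ ∀ i, x ∈ L a i := by
  unfold DD
  rw [Subgroup.mem_inf, Subgroup.mem_inf]
  constructor
  · rintro ⟨h1, h2, h3⟩
    refine ⟨h1, fun i => ?_⟩
    cases i
    · exact h2
    · exact h3
  · rintro ⟨h1, h2⟩
    exact ⟨h1, h2 _, h2 _⟩

theorem mem_DD' {L : Bool → Bool → Subgroup G} {T : Subgroup G} {a i i' : Bool} (hi : i ≠ i') {x : G} (hx : x ∈ T)
    (h1 : x ∈ L a i) (h2 : x ∈ L a i') : x ∈ DD L T a := by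
  refine mem_DD.mpr ⟨hx, fun l => ?_⟩
  by_cases h : i = l
  · subst h; exact h1
  · have := bool_third hi h
    subst this; exact h2

namespace BE

variable {L : Bool → Bool → Subgroup G} {T : Subgroup G} {g : Bool → Bool → G}

/-- `P a i P b k` -/
def BB (h : BE L T g) (a i b k : Bool) : Subgroup G :=
  mulSub (T ⊓ L a i) (T ⊓ L b k) (comm_cj fun _ hp _ hw => h.cT hp.1 hp.2 hw.1 hw.2)

/-- `D a D b` -/
def VV (h : BE L T g) (a b : Bool) : Subgroup G :=
  mulSub (DD L T a) (DD L T b) (comm_cj fun _ hp _ hw => h.cT (mem_DD.mp hp).1 ((mem_DD.mp hp).2 true) (mem_DD.mp hw).1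
    ((mem_DD.mp hw).2 true))

section
variable {a b i i' k k' : Bool}

theorem mem_BB (h : BE L T g) {x : G} : x ∈ h.BB a i b k ↔ ∃ p ∈ T ⊓ L a i, ∃ q ∈ T ⊓ L b k, x = p * q := mem_mulSub

theorem mem_VV (h : BE L T g) {x : G} : x ∈ h.VV a b ↔ ∃ p ∈ DD L T a, ∃ q ∈ DD L T b, x = p * q := mem_mulSub

theorem BB_le (h : BE L T g) : h.BB a i b k ≤ T := mulSub_le inf_le_left inf_le_left

theorem VV_le_BB (h : BE L T g) : h.VV a b ≤ h.BB a i b k := by
  intro x hx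
  obtain ⟨p, hp, q, hq, rfl⟩ := h.mem_VV.mp hx
  exact h.mem_BB.mpr ⟨p, ⟨(mem_DD.mp hp).1, (mem_DD.mp hp).2 i⟩, q, ⟨(mem_DD.mp hq).1, (mem_DD.mp hq).2 k⟩, rfl⟩

theorem P_le_BB (h : BE L T g) : T ⊓ L a i ≤ h.BB a i b k := le_mulSub_left

theorem P_le_BB' (h : BE L T g) : T ⊓ L b k ≤ h.BB a i b k := le_mulSub_right

theorem D_le_VV (h : BE L T g) : DD L T a ≤ h.VV a b := le_mulSub_left

theorem D_le_VV' (h : BE L T g) : DD L T b ≤ h.VV a b := le_mulSub_right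

/-- `P a i P b k` commutes with all groups `P` -/
theorem BB_comm (h : BE L T g) {c l : Bool} {x y : G} (hx : x ∈ h.BB a i b k) (hy : y ∈ T) (hyL : y ∈ L c l) :
    x * y = y * x := by
  obtain ⟨p, hp, q, hq, rfl⟩ := h.mem_BB.mp hx
  have h1 := h.cT hp.1 hp.2 hy hyL
  have h2 := h.cT hq.1 hq.2 hy hyL
  rw [mul_assoc, h2, ← mul_assoc, h1, mul_assoc]

/-- `V ∩ L b k = D b` -/
theorem VV_inf (h : BE L T g) (hab : a ≠ b) {x : G} (hx : x ∈ h.VV a b) (hxL : x ∈ L b k) : x ∈ DD L T b := by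
  obtain ⟨p, hp, q, hq, rfl⟩ := h.mem_VV.mp hx
  have h1 : p ∈ L b k := by
    have : p = p * q * q⁻¹ := by group
    rw [this]; exact mul_mem hxL (inv_mem ((mem_DD.mp hq).2 k))
  have h2 := h.dis a true b k hab p (mem_DD.mp hp).1 ((mem_DD.mp hp).2 true) h1
  rw [h2, one_mul]; exact hq

/-- `V ∩ L a i = D a` -/
theorem VV_inf' (h : BE L T g) (hab : a ≠ b) {x : G} (hx : x ∈ h.VV a b) (hxL : x ∈ L a i) : x ∈ DD L T a := by
  obtain ⟨p, hp, q, hq, rfl⟩ := h.mem_VV.mp hx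
  have h1 : q ∈ L a i := by
    have : q = p⁻¹ * (p * q) := by group
    rw [this]; exact mul_mem (inv_mem ((mem_DD.mp hp).2 i)) hxL
  have h2 := h.dis b true a i (Ne.symm hab) q (mem_DD.mp hq).1 ((mem_DD.mp hq).2 true) h1
  rw [h2, mul_one]; exact hp

variable [Finite G]

/-- `|D a| < |P b k|` -/
theorem card_DD_lt (h : BE L T g) (a b k : Bool) : Nat.card (DD L T a) < Nat.card ↥(T ⊓ L b k) := by
  rw [h.card_eq b k a true]
  have hle : DD L T a ≤ T ⊓ L a true := fun x hx => ⟨(mem_DD.mp hx).1, (mem_DD.mp hx).2 true⟩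
  by_contra hcon
  have h1 := Subgroup.eq_of_le_of_card_ge hle (not_lt.mp hcon)
  obtain ⟨x, hx, hxL, hxn⟩ := h.nz a true false (by decide)
  have h2 : x ∈ T ⊓ L a true := ⟨hx, hxL⟩
  rw [← h1] at h2
  exact hxn ((mem_DD.mp h2).2 false)

/-- **fusion** -/
theorem mapE (h : BE L T g) {y : G} {c l c' l' e : Bool} (hce : c' ≠ e)
    (H : ∀ p ∈ T, p ∈ L c l → ∃ u ∈ T, u ∈ L c' l' ∧ ∃ z ∈ DD L T e, y * p * y⁻¹ = u * z) :
    cj y (L c l) = L c' l' ∧ ∀ l1 l1', l ≠ l1 → l' ≠ l1' → cj y (L c l1) = L c' l1' := by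
  have H' : ∀ p : ↥(T ⊓ L c l), ∃ z : DD L T e, ∃ u ∈ T, u ∈ L c' l' ∧ y * p * y⁻¹ = u * z := by
    intro p
    obtain ⟨u, hu, huL, z, hz, e1⟩ := H p p.2.1 p.2.2
    exact ⟨⟨z, hz⟩, u, hu, huL, e1⟩
  choose z hz using H'
  have hninj : ¬ Function.Injective z := by
    intro h1
    have h2 := Nat.card_le_card_of_injective z h1
    have h3 := h.card_DD_lt e c l
    omega
  rw [Function.Injective] at hninj
  push Not at hninj
  obtain ⟨p1, p2, hp, hne⟩ := hninj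
  obtain ⟨u1, hu1, hu1L, e1⟩ := hz p1
  obtain ⟨u2, hu2, hu2L, e2⟩ := hz p2
  have hfus := h.fus c l c' l' ((p1 : G) * (p2 : G)⁻¹) y (mul_mem p1.2.1 (inv_mem p2.2.1))
    (mul_mem p1.2.2 (inv_mem p2.2.2)) (fun h0 => hne (Subtype.ext (mul_inv_eq_one.mp h0))) (by
      have : y * ((p1 : G) * (p2 : G)⁻¹) * y⁻¹ = u1 * u2⁻¹ := by
        calc y * ((p1 : G) * (p2 : G)⁻¹) * y⁻¹ = (y * p1 * y⁻¹) * (y * p2 * y⁻¹)⁻¹ := by group
          _ = u1 * u2⁻¹ := by rw [e1, e2, hp]; group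
      rw [this]
      exact mul_mem hu1L (inv_mem hu2L))
  obtain ⟨k0, hk0⟩ := hfus l
  have hk0' : k0 = l' := by
    by_contra hne'
    -- `y P y⁻¹ ≤ D`
    have h1 : ∀ p : ↥(T ⊓ L c l), y * (p : G) * y⁻¹ ∈ DD L T c' := by
      intro p
      obtain ⟨u, hu, huL, e3⟩ := hz p
      have h2 : y * (p : G) * y⁻¹ ∈ L c' k0 := by
        rw [← hk0]; exact conj_mem_cj p.2.2
      have hzT := (mem_DD.mp (z p).2).1
      have h3 : u⁻¹ * (y * (p : G) * y⁻¹) = z p := by rw [e3]; group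
      have h4 := h.prod c' l' k0 e true hce (Ne.symm hne') u⁻¹ (inv_mem hu) (inv_mem huL) (y * (p : G) * y⁻¹)
        (by rw [e3]; exact mul_mem hu hzT) h2 (by rw [h3]; exact (mem_DD.mp (z p).2).2 true)
      have h5 : y * (p : G) * y⁻¹ = u := by
        have := eq_inv_of_mul_eq_one_right h4
        rwa [inv_inv] at this
      refine mem_DD' hne' (by rw [h5]; exact hu) h2 (by rw [h5]; exact huL)
    have h2 := Nat.card_le_card_of_injective (fun p : ↥(T ⊓ L c l) => (⟨_, h1 p⟩ : DD L T c')) (by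
      intro p q hpq
      have h3 : y * (p : G) * y⁻¹ = y * (q : G) * y⁻¹ := congrArg Subtype.val hpq
      exact Subtype.ext (mul_left_cancel (mul_right_cancel h3)))
    have h3 := h.card_DD_lt c' c l
    omega
  subst hk0'
  refine ⟨hk0, fun l1 l1' hl hl' => ?_⟩
  obtain ⟨k1, hk1⟩ := hfus l1
  have hk1' : k0 ≠ k1 := by
    rintro rfl
    rw [← hk0] at hk1
    exact hl (h.inj c l c l1 (cj_injective y hk1).symm).2
  rw [bool_third hk1' hl'] at hk1
  exact hk1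

omit [Finite G] in
/-- the group `Γ` -/
def GE (h : BE L T g) (a i b k k' : Bool) : Subgroup G where
  carrier := {y | (cj y (h.BB a i b k) = h.BB a i b k) ∧ ∀ u ∈ T, u ∈ L a i →
    y * (u * (g b k * g b k' * u * (g b k * g b k')⁻¹)) = (u * (g b k * g b k' * u * (g b k * g b k')⁻¹)) * y}
  one_mem' := ⟨cj_one _, fun u _ _ => by simp⟩
  mul_mem' := by
    rintro x y ⟨hx, hx'⟩ ⟨hy, hy'⟩
    refine ⟨cj_mul_eq hx hy, fun u h1 h2 => ?_⟩
    rw [mul_assoc, hy' u h1 h2, ← mul_assoc, hx' u h1 h2, mul_assoc]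
  inv_mem' := by
    rintro x ⟨hx, hx'⟩
    refine ⟨cj_inv_eq hx, fun u h1 h2 => ?_⟩
    have h4 : Commute x (u * (g b k * g b k' * u * (g b k * g b k')⁻¹)) := hx' u h1 h2
    exact h4.inv_left.eq

section mem
variable {S : Subgroup G} {d : G}

/-- `⁅d, p q⁆ = ⁅d, q⁆` -/
theorem d_BB (h : BE L T g) (hab : a ≠ b) (D : Gd L T a i b k S d) {w : G} (hw : w ∈ h.BB a i b k) :
    ⁅d, w⁆ ∈ T ∧ ⁅d, w⁆ ∈ L a i := by
  obtain ⟨p, hp, q, hq, rfl⟩ := h.mem_BB.mp hw
  have h1 : ⁅d, p * q⁆ = ⁅d, q⁆ := by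
    have h2 := h.d_comm hab D hp.1 hp.2
    have h3 := h.cT hp.1 hp.2 (h.rT D hq.1 hq.2) (h.rL D hq.1)
    rw [comm_mul_of h3, comm_one_of h2, one_mul]
  rw [h1]
  exact ⟨h.rT D hq.1 hq.2, h.rL D hq.1⟩

theorem d_mem (h : BE L T g) (hab : a ≠ b) (hi : i ≠ i') (hk : k ≠ k') (D : Gd L T a i b k S d) :
    d ∈ h.GE a i b k k' := by
  constructor
  · refine cj_of_forall fun w hw => ?_
    rw [conj_eq_comm_mul]
    exact mul_mem (h.P_le_BB (h.d_BB hab D hw)) hw
  · intro u hu huL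
    have h1 := h.d_comm hab D hu huL
    have h2 := h.comm a i i' hi d D.dL _ (h.j_L (p := u) hab hk hi huL)
    rw [← mul_assoc, h1, mul_assoc, h2, ← mul_assoc]

/-- `⁅g b k, p q⁆ ∈ P b k` -/
theorem h_BB (h : BE L T g) {w : G} (hw : w ∈ h.BB a i b k) : ⁅g b k, w⁆ ∈ T ∧ ⁅g b k, w⁆ ∈ L b k := by
  have hwT := h.BB_le hw
  exact ⟨h.cm_T hwT b k, h.cm_L hwT b k⟩

theorem h_mem (h : BE L T g) (hk : k ≠ k') : g b k ∈ h.GE a i b k k' := by
  constructor
  · refine cj_of_forall fun w hw => ?_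
    rw [conj_eq_comm_mul]
    exact mul_mem (h.P_le_BB' (h.h_BB hw)) hw
  · intro u hu huL
    have h1 : u * (g b k * g b k' * u * (g b k * g b k')⁻¹) = ⁅g b k, u⁆ * ⁅g b k', u⁆ := by
      rw [h.j_conj hk hu]
      have c1 : u * ⁅g b k, u⁆ = ⁅g b k, u⁆ * u := h.cT hu huL (h.cm_T hu b k) (h.cm_L hu b k)
      have c2 : u * ⁅g b k', u⁆ = ⁅g b k', u⁆ * u := h.cT hu huL (h.cm_T hu b k') (h.cm_L hu b k')
      calc u * (⁅g b k, u⁆ * ⁅g b k', u⁆ * u) = (u * ⁅g b k, u⁆) * ⁅g b k', u⁆ * u := by group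
        _ = ⁅g b k, u⁆ * (u * ⁅g b k', u⁆) * u := by rw [c1]; group
        _ = ⁅g b k, u⁆ * ⁅g b k', u⁆ * (u * u) := by rw [c2]; group
        _ = _ := by rw [h.el a i u hu huL, mul_one]
    rw [h1]
    have h2 : g b k * ⁅g b k, u⁆ = ⁅g b k, u⁆ * g b k := h.g_cent b k (h.cm_T hu b k) (h.cm_L hu b k)
    have h4 : g b k * ⁅g b k', u⁆ = ⁅g b k', u⁆ * g b k := h.comm b k k' hk _ (h.gm b k) _ (h.cm_L hu b k')
    rw [← mul_assoc, h2, mul_assoc, h4, mul_assoc]

end mem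

/-- **(d1)** an element of `Γ` normalising the members is trivial modulo `D a D b` -/
theorem trivE (h : BE L T g) (hab : a ≠ b) (hi : i ≠ i') (hk : k ≠ k') {y : G} (hy : y ∈ h.GE a i b k k')
    (h1 : ∀ l, cj y (L a l) = L a l) (h2 : ∀ l, cj y (L b l) = L b l) {w : G} (hw : w ∈ h.BB a i b k) :
    ⁅y, w⁆ ∈ h.VV a b := by
  -- elements of `P a i`
  have hP : ∀ u ∈ T, u ∈ L a i → ⁅y, u⁆ ∈ DD L T a := by
    intro u hu huL
    set v := g b k * g b k' * u * (g b k * g b k')⁻¹ with hv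
    have hvL : v ∈ L a i' := h.j_L hab hk hi huL
    have h3 : y * (u * v) = (u * v) * y := hy.2 u hu huL
    have huB : u ∈ h.BB a i b k := h.P_le_BB ⟨hu, huL⟩
    have huB' : y * u * y⁻¹ ∈ h.BB a i b k := conj_mem_of_cj hy.1 huB
    have hT' : ⁅y, u⁆ ∈ T := by
      rw [commutatorElement_def]; exact mul_mem (h.BB_le huB') (inv_mem hu)
    have hL' : ⁅y, u⁆ ∈ L a i := comm_mem' huL (h1 i)
    have h4 : u⁻¹ * ⁅y, u⁆ * u = v * (y * v * y⁻¹)⁻¹ := by
      rw [commutatorElement_def]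
      calc u⁻¹ * (y * u * y⁻¹ * u⁻¹) * u = u⁻¹ * (y * (u * v)) * v⁻¹ * y⁻¹ := by group
        _ = u⁻¹ * ((u * v) * y) * v⁻¹ * y⁻¹ := by rw [h3]
        _ = _ := by group
    have h5 : u⁻¹ * ⁅y, u⁆ * u = ⁅y, u⁆ := by
      rw [mul_assoc, h.comm_P hT' hL' hu huL]; group
    rw [h5] at h4
    refine mem_DD' hi hT' hL' ?_
    rw [h4]
    exact mul_mem hvL (inv_mem (conj_mem_of_cj (h1 i') hvL))
  -- elements of `P b k`
  have hP' : ∀ q ∈ T, q ∈ L b k → ⁅y, q⁆ ∈ DD L T b := by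
    intro q hq hqL
    obtain ⟨u, hu, huL, rfl⟩ := h.cm_surj (Ne.symm hab) k i hq hqL
    set v := g b k * g b k' * u * (g b k * g b k')⁻¹ with hv
    have h3 : y * (u * v) = (u * v) * y := hy.2 u hu huL
    set q := ⁅g b k, u⁆ with hqdef
    set q' := ⁅g b k', u⁆ with hq'def
    have hq'L : q' ∈ L b k' := h.cm_L hu b k'
    have e1 : u * v = q * q' := by
      rw [hv, h.j_conj hk hu]
      have c1 : u * q = q * u := h.cT hu huL (h.cm_T hu b k) (h.cm_L hu b k)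
      have c2 : u * q' = q' * u := h.cT hu huL (h.cm_T hu b k') (h.cm_L hu b k')
      calc u * (q * q' * u) = (u * q) * q' * u := by group
        _ = q * (u * q') * u := by rw [c1]; group
        _ = q * q' * (u * u) := by rw [c2]; group
        _ = _ := by rw [h.el a i u hu huL, mul_one]
    rw [e1] at h3
    have hqB : q ∈ h.BB a i b k := h.P_le_BB' ⟨hq, hqL⟩
    have hqB' : y * q * y⁻¹ ∈ h.BB a i b k := conj_mem_of_cj hy.1 hqB
    have hT' : ⁅y, q⁆ ∈ T := by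
      rw [commutatorElement_def]; exact mul_mem (h.BB_le hqB') (inv_mem hq)
    have hL' : ⁅y, q⁆ ∈ L b k := comm_mem' hqL (h2 k)
    have h4 : q⁻¹ * ⁅y, q⁆ * q = q' * (y * q' * y⁻¹)⁻¹ := by
      rw [commutatorElement_def]
      calc q⁻¹ * (y * q * y⁻¹ * q⁻¹) * q = q⁻¹ * (y * (q * q')) * q'⁻¹ * y⁻¹ := by group
        _ = q⁻¹ * ((q * q') * y) * q'⁻¹ * y⁻¹ := by rw [h3]
        _ = _ := by group
    have h5 : q⁻¹ * ⁅y, q⁆ * q = ⁅y, q⁆ := by
      rw [mul_assoc, h.comm_P hT' hL' hq hqL]; group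
    rw [h5] at h4
    refine mem_DD' hk hT' hL' ?_
    rw [h4]
    exact mul_mem hq'L (inv_mem (conj_mem_of_cj (h2 k') hq'L))
  obtain ⟨p, hp, q, hq, rfl⟩ := h.mem_BB.mp hw
  have h3 := hP p hp.1 hp.2
  have h4 := hP' q hq.1 hq.2
  have h5 : p * ⁅y, q⁆ = ⁅y, q⁆ * p := h.cT hp.1 hp.2 (mem_DD.mp h4).1 ((mem_DD.mp h4).2 true)
  rw [comm_mul_of h5]
  exact mul_mem (h.D_le_VV h3) (h.D_le_VV' h4)

end

end BE

end Cfsg.Agent.OddHalf.D3.BEven
end

-- part: OddHalf/D3/BEven/SwapE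
section
set_option linter.all false
open scoped Cfsg.Agent.FastGrp

/-!
# ODD D3 (iii), even centre, `n = 2`, (mv)-world, (beta2): (d2), (d3) of helper159's text (bb ODD 10707)
-/

set_option autoImplicit false

namespace Cfsg.Agent.OddHalf.D3.BEven

open Cfsg.Agent.OddHalf.D3.ThreeDefs Cfsg.Agent.OddHalf.D3.ThreeFam Cfsg.Agent.OddHalf.D3.ThreeMain
  Cfsg.Agent.OddHalf.D3.ThreeEnd
open Cfsg.Agent.OddHalf.D3.BTwo (comm_mem comm_mem' conj_eq_comm_mul comm_eq_one comm_one_of exists_two exists_fix Gd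
  comm_mul_of dbl mem_dbl bool_third dich)
open scoped commutatorElement

universe u

variable {G : Type u} [Group G]

namespace BE

variable {L : Bool → Bool → Subgroup G} {T : Subgroup G} {g : Bool → Bool → G}
variable {a b i i' k k' : Bool} {S : Subgroup G} {d : G}

theorem split1 (h : BE L T g) {c r : G} (hc : c ∈ h.VV a b) (hr : r ∈ T) (hrL : r ∈ L a i) :
    ∃ u ∈ T, u ∈ L a i ∧ ∃ z ∈ DD L T b, c * r = u * z := by
  obtain ⟨z1, hz1, z2, hz2, rfl⟩ := h.mem_VV.mp hc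
  refine ⟨z1 * r, mul_mem (mem_DD.mp hz1).1 hr, mul_mem ((mem_DD.mp hz1).2 i) hrL, z2, hz2, ?_⟩
  have := h.cT (mem_DD.mp hz2).1 ((mem_DD.mp hz2).2 true) hr hrL
  rw [mul_assoc, this, mul_assoc]

theorem split2 (h : BE L T g) {c r : G} (hc : c ∈ h.VV a b) (hr : r ∈ T) (hrL : r ∈ L b k) :
    ∃ u ∈ T, u ∈ L b k ∧ ∃ z ∈ DD L T a, c * r = u * z := by
  obtain ⟨z1, hz1, z2, hz2, rfl⟩ := h.mem_VV.mp hc
  refine ⟨z2 * r, mul_mem (mem_DD.mp hz2).1 hr, mul_mem ((mem_DD.mp hz2).2 k) hrL, z1, hz1, ?_⟩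
  exact (by
    have := h.cT (mem_DD.mp hz1).1 ((mem_DD.mp hz1).2 true) (mul_mem (mem_DD.mp hz2).1 hr)
      (mul_mem ((mem_DD.mp hz2).2 k) hrL)
    rw [mul_assoc, this])

variable [Finite G]

/-- the element interchanging `L a i` and `L b k` -/
theorem exists_swapE (h : BE L T g) (hab : a ≠ b) (hi : i ≠ i') (hk : k ≠ k') (D : Gd L T a i b k S d) :
    ∃ y ∈ Subgroup.closure {d, g b k}, (cj y (L a i) = L b k ∧ cj y (L a i') = L b k') ∧
      (cj y (L b k) = L a i ∧ cj y (L b k') = L a i') ∧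
      ∀ w ∈ h.BB a i b k, y * ⁅d, w⁆ * y⁻¹ * ⁅g b k, y * w * y⁻¹⁆⁻¹ ∈ h.VV a b := by
  set Δ := Subgroup.closure {d, g b k} with hΔ
  have hΔΓ : Δ ≤ h.GE a i b k k' := by
    rw [hΔ, Subgroup.closure_le]
    rintro x (rfl | rfl)
    · exact h.d_mem hab hi hk D
    · exact h.h_mem hk
  have hB : ∀ y ∈ Δ, ∀ w ∈ h.BB a i b k, y * w * y⁻¹ ∈ h.BB a i b k := fun y hy w hw => conj_mem_of_cj (hΔΓ hy).1 hw
  have hd2 : ∀ w ∈ h.BB a i b k, (d * d) * w = w * (d * d) := fun w hw =>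
    (h.BB_comm hw (h.d_sq hab D) (mul_mem D.dL D.dL)).symm
  have he2 : ∀ w ∈ h.BB a i b k, (g b k * g b k) * w = w * (g b k * g b k) := fun w hw =>
    (h.BB_comm hw (h.gs b k) (mul_mem (h.gm b k) (h.gm b k))).symm
  have hdΔ : d ∈ Δ := Subgroup.subset_closure (by simp)
  have heΔ : g b k ∈ Δ := Subgroup.subset_closure (by simp)
  rcases dichE (V := h.VV a b) hΔ hB hd2 he2 with ⟨f, hf, ⟨w0, hw0, hw0n⟩, hf1, hf2⟩ | ⟨y, hy, hy1, hy2⟩
  · exfalso
    obtain ⟨m1, m2⟩ := h.mapE (y := f) (c := a) (l := i) (c' := a) (l' := i) (e := b) hab (by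
      intro p hp hpL
      obtain ⟨x, hx, hxL, rfl⟩ := h.rsurj hab D hp hpL
      have hxB : x ∈ h.BB a i b k := h.P_le_BB' ⟨hx, hxL⟩
      have h1 := Core_le (hf2 d hdΔ x hxB)
      have h2 := h.d_BB hab D (hB f hf x hxB)
      obtain ⟨u, hu, huL, z, hz, e⟩ := h.split1 h1 h2.1 h2.2
      refine ⟨u, hu, huL, z, hz, ?_⟩
      rw [← e]; group)
    obtain ⟨n1, n2⟩ := h.mapE (y := f) (c := b) (l := k) (c' := b) (l' := k) (e := a) (Ne.symm hab) (by
      intro p hp hpL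
      obtain ⟨x, hx, hxL, rfl⟩ := h.cm_surj (Ne.symm hab) k i hp hpL
      have hxB : x ∈ h.BB a i b k := h.P_le_BB ⟨hx, hxL⟩
      have h1 := Core_le (hf2 (g b k) heΔ x hxB)
      have h2 := h.h_BB (hB f hf x hxB)
      obtain ⟨u, hu, huL, z, hz, e⟩ := h.split2 h1 h2.1 h2.2
      refine ⟨u, hu, huL, z, hz, ?_⟩
      rw [← e]; group)
    have hm : ∀ l, cj f (L a l) = L a l := by
      intro l
      by_cases hl : i = l
      · subst hl; exact m1
      · exact m2 l l hl hl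
    have hn : ∀ l, cj f (L b l) = L b l := by
      intro l
      by_cases hl : k = l
      · subst hl; exact n1
      · exact n2 l l hl hl
    apply hw0n
    intro y hy
    have h1 := Core_le (hf1 y hy w0 hw0)
    have h2 := h.trivE hab hi hk (hΔΓ hf) hm hn (hB y hy w0 hw0)
    have e : y * ⁅f, w0⁆ * y⁻¹ = (y * ⁅f, w0⁆ * y⁻¹ * ⁅f, y * w0 * y⁻¹⁆⁻¹) * ⁅f, y * w0 * y⁻¹⁆ := by group
    rw [e]
    exact mul_mem h1 h2
  · obtain ⟨m1, m2⟩ := h.mapE (y := y) (c := a) (l := i) (c' := b) (l' := k) (e := a) (Ne.symm hab) (by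
      intro p hp hpL
      obtain ⟨x, hx, hxL, rfl⟩ := h.rsurj hab D hp hpL
      have hxB : x ∈ h.BB a i b k := h.P_le_BB' ⟨hx, hxL⟩
      have h1 := Core_le (hy1 x hxB)
      have h2 := h.h_BB (hB y hy x hxB)
      obtain ⟨u, hu, huL, z, hz, e⟩ := h.split2 h1 h2.1 h2.2
      refine ⟨u, hu, huL, z, hz, ?_⟩
      rw [← e]; group)
    obtain ⟨n1, n2⟩ := h.mapE (y := y) (c := b) (l := k) (c' := a) (l' := i) (e := b) hab (by
      intro p hp hpL
      obtain ⟨x, hx, hxL, rfl⟩ := h.cm_surj (Ne.symm hab) k i hp hpL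
      have hxB : x ∈ h.BB a i b k := h.P_le_BB ⟨hx, hxL⟩
      have h1 := Core_le (hy2 x hxB)
      have h2 := h.d_BB hab D (hB y hy x hxB)
      obtain ⟨u, hu, huL, z, hz, e⟩ := h.split1 h1 h2.1 h2.2
      refine ⟨u, hu, huL, z, hz, ?_⟩
      rw [← e]; group)
    exact ⟨y, hy, ⟨m1, m2 i' k' hi hk⟩, ⟨n1, n2 k' i' hk hi⟩, fun w hw => Core_le (hy1 w hw)⟩

/-- **(d2)** -/
theorem d_D (h : BE L T g) (hab : a ≠ b) (hi : i ≠ i') (hk : k ≠ k') (D : Gd L T a i b k S d) {x : G}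
    (hx : x ∈ DD L T b) : ⁅d, x⁆ ∈ DD L T a := by
  obtain ⟨y, hy, ⟨m1, m2⟩, ⟨n1, n2⟩, hyw⟩ := h.exists_swapE hab hi hk D
  have hxT := (mem_DD.mp hx).1
  have hxB : x ∈ h.BB a i b k := h.P_le_BB' ⟨hxT, (mem_DD.mp hx).2 k⟩
  have hyΓ : y ∈ h.GE a i b k k' := by
    have : Subgroup.closure {d, g b k} ≤ h.GE a i b k k' := by
      rw [Subgroup.closure_le]
      rintro x (rfl | rfl)
      · exact h.d_mem hab hi hk D
      · exact h.h_mem hk
    exact this hy
  have hx'B : y * x * y⁻¹ ∈ h.BB a i b k := conj_mem_of_cj hyΓ.1 hxB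
  have hx'1 : y * x * y⁻¹ ∈ L a i := by rw [← n1]; exact conj_mem_cj ((mem_DD.mp hx).2 k)
  have hx'2 : y * x * y⁻¹ ∈ L a i' := by rw [← n2]; exact conj_mem_cj ((mem_DD.mp hx).2 k')
  have h1 := h.cm_D hab hi hk (h.BB_le hx'B) hx'1 hx'2
  have h2 : ⁅g b k, y * x * y⁻¹⁆ ∈ DD L T b := mem_DD' hk (h.cm_T (h.BB_le hx'B) b k) (h.cm_L (h.BB_le hx'B) b k) h1
  have hpT := (h.d_BB hab D hxB).1
  have hpL := (h.d_BB hab D hxB).2
  have h3 : y * ⁅d, x⁆ * y⁻¹ ∈ h.VV a b := by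
    have e : y * ⁅d, x⁆ * y⁻¹ = (y * ⁅d, x⁆ * y⁻¹ * ⁅g b k, y * x * y⁻¹⁆⁻¹) * ⁅g b k, y * x * y⁻¹⁆ := by group
    rw [e]
    exact mul_mem (hyw x hxB) (h.D_le_VV' h2)
  have h4 : y * ⁅d, x⁆ * y⁻¹ ∈ L b k := by rw [← m1]; exact conj_mem_cj hpL
  have h5 := (mem_DD.mp (h.VV_inf hab h3 h4)).2 k'
  refine mem_DD' hi hpT hpL ?_
  rw [← m2, mem_cj] at h5
  have e : y⁻¹ * (y * ⁅d, x⁆ * y⁻¹) * y = ⁅d, x⁆ := by group
  rwa [e] at h5

/-- `V` is invariant -/
theorem VV_inv (h : BE L T g) (hab : a ≠ b) (hi : i ≠ i') (hk : k ≠ k') (D : Gd L T a i b k S d) {y : G}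
    (hy : y ∈ Subgroup.closure {d, g b k}) : cj y (h.VV a b) = h.VV a b := by
  have key : Subgroup.closure {d, g b k} ≤ Subgroup.normalizer (h.VV a b : Set G) := by
    rw [Subgroup.closure_le]
    rintro x (rfl | rfl)
    · refine mem_normalizer_of_cj (cj_of_forall fun v hv => ?_)
      obtain ⟨z1, hz1, z2, hz2, rfl⟩ := h.mem_VV.mp hv
      have h1 := h.d_comm hab D (mem_DD.mp hz1).1 ((mem_DD.mp hz1).2 i)
      have e : x * (z1 * z2) * x⁻¹ = z1 * (⁅x, z2⁆ * z2) := by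
        calc x * (z1 * z2) * x⁻¹ = (x * z1) * z2 * x⁻¹ := by group
          _ = z1 * (x * z2 * x⁻¹) := by rw [h1]; group
          _ = _ := by rw [conj_eq_comm_mul]
      rw [e]
      exact mul_mem (h.D_le_VV hz1) (mul_mem (h.D_le_VV (h.d_D hab hi hk D hz2)) (h.D_le_VV' hz2))
    · refine mem_normalizer_of_cj (cj_of_forall fun v hv => ?_)
      obtain ⟨z1, hz1, z2, hz2, rfl⟩ := h.mem_VV.mp hv
      have h1 := h.g_cent b k (mem_DD.mp hz2).1 ((mem_DD.mp hz2).2 k)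
      have h2 : ⁅g b k, z1⁆ ∈ DD L T b := mem_DD' hk (h.cm_T (mem_DD.mp hz1).1 b k) (h.cm_L (mem_DD.mp hz1).1 b k)
        (h.cm_D hab hi hk (mem_DD.mp hz1).1 ((mem_DD.mp hz1).2 i) ((mem_DD.mp hz1).2 i'))
      have e : g b k * (z1 * z2) * (g b k)⁻¹ = (⁅g b k, z1⁆ * z1) * z2 := by
        calc g b k * (z1 * z2) * (g b k)⁻¹ = g b k * z1 * (g b k)⁻¹ * (g b k * z2) * (g b k)⁻¹ := by group
          _ = g b k * z1 * (g b k)⁻¹ * z2 := by rw [h1]; group
          _ = _ := by rw [conj_eq_comm_mul]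
      rw [e]
      exact mul_mem (mul_mem (h.D_le_VV' h2) (h.D_le_VV hz1)) (h.D_le_VV' hz2)
  exact cj_of_mem_normalizer (key hy)

/-- **(d3)** -/
theorem frobE (h : BE L T g) (hab : a ≠ b) (D : Gd L T a i b k S d) (hgS : g a i ∈ S) : (g a i)⁻¹ * d ∈ T := by
  obtain ⟨k', hk⟩ := exists_ne k
  obtain ⟨i', hi⟩ := exists_ne i
  obtain ⟨S', D'⟩ := h.gd a i b k
  obtain ⟨y1, hy1, ⟨m1, m1'⟩, ⟨n1, n1'⟩, e1⟩ := h.exists_swapE hab hi hk D
  obtain ⟨y2, hy2, ⟨m2, m2'⟩, ⟨n2, n2'⟩, e2⟩ := h.exists_swapE hab hi hk D'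
  have hcl : ∀ {S : Subgroup G} {d : G} (_ : Gd L T a i b k S d), Subgroup.closure {d, g b k} ≤ h.GE a i b k k' := by
    intro S d D
    rw [Subgroup.closure_le]
    rintro x (rfl | rfl)
    · exact h.d_mem hab hi hk D
    · exact h.h_mem hk
  set y := y2⁻¹ * y1 with hy
  have hyΓ : y ∈ h.GE a i b k k' := mul_mem (inv_mem (hcl D' hy2)) (hcl D hy1)
  have hm : ∀ l, cj y (L a l) = L a l := by
    intro l
    by_cases hl : i = l
    · subst hl
      rw [hy, cj_mul, m1, ← m2, cj_inv_cj]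
    · have hl' := bool_third hi hl
      subst hl'
      rw [hy, cj_mul, m1', ← m2', cj_inv_cj]
  have hn : ∀ l, cj y (L b l) = L b l := by
    intro l
    by_cases hl : k = l
    · subst hl
      rw [hy, cj_mul, n1, ← n2, cj_inv_cj]
    · have hl' := bool_third hk hl
      subst hl'
      rw [hy, cj_mul, n1', ← n2', cj_inv_cj]
  have htr : ∀ w ∈ h.BB a i b k, ⁅y, w⁆ ∈ h.VV a b := fun w hw => h.trivE hab hi hk hyΓ hm hn hw
  -- `⁅d, x⁆ = ⁅g a i, x⁆` modulo `D a`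
  have key : ∀ x ∈ T, x ∈ L b k → ⁅d, x⁆ * ⁅g a i, x⁆⁻¹ ∈ DD L T a := by
    intro x hx hxL
    have hxB : x ∈ h.BB a i b k := h.P_le_BB' ⟨hx, hxL⟩
    set w2 := y * x * y⁻¹ with hw2
    have hw2B : w2 ∈ h.BB a i b k := conj_mem_of_cj hyΓ.1 hxB
    have f1 := e1 x hxB
    have f2 := e2 w2 hw2B
    have f3 : y2 * w2 * y2⁻¹ = y1 * x * y1⁻¹ := by rw [hw2, hy]; group
    rw [f3] at f2
    have f4 : y1 * ⁅d, x⁆ * y1⁻¹ * (y2 * ⁅g a i, w2⁆ * y2⁻¹)⁻¹ ∈ h.VV a b := by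
      have e : y1 * ⁅d, x⁆ * y1⁻¹ * (y2 * ⁅g a i, w2⁆ * y2⁻¹)⁻¹ =
          (y1 * ⁅d, x⁆ * y1⁻¹ * ⁅g b k, y1 * x * y1⁻¹⁆⁻¹) *
            (y2 * ⁅g a i, w2⁆ * y2⁻¹ * ⁅g b k, y1 * x * y1⁻¹⁆⁻¹)⁻¹ := by group
      rw [e]
      exact mul_mem f1 (inv_mem f2)
    have f5 := conj_mem_of_cj (cj_inv_eq (h.VV_inv hab hi hk D' hy2)) f4
    have f6 : y2⁻¹ * (y1 * ⁅d, x⁆ * y1⁻¹ * (y2 * ⁅g a i, w2⁆ * y2⁻¹)⁻¹) * y2⁻¹⁻¹ =
        ⁅y, ⁅d, x⁆⁆ * (⁅d, x⁆ * ⁅g a i, w2⁆⁻¹) := by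
      rw [hy, commutatorElement_def (y2⁻¹ * y1)]; group
    rw [f6] at f5
    have hdB : ⁅d, x⁆ ∈ h.BB a i b k := h.P_le_BB (h.d_BB hab D hxB)
    have f7 : ⁅d, x⁆ * ⁅g a i, w2⁆⁻¹ ∈ h.VV a b := by
      have e : ⁅d, x⁆ * ⁅g a i, w2⁆⁻¹ = ⁅y, ⁅d, x⁆⁆⁻¹ * (⁅y, ⁅d, x⁆⁆ * (⁅d, x⁆ * ⁅g a i, w2⁆⁻¹)) := by group
      rw [e]
      exact mul_mem (inv_mem (htr _ hdB)) f5
    set v := ⁅y, x⁆ with hv
    have hvV : v ∈ h.VV a b := htr x hxB
    have f8 : w2 = v * x := by rw [hw2, hv, conj_eq_comm_mul]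
    have hgx := h.d_BB hab D' hxB
    have f9 : ⁅g a i, w2⁆ = ⁅g a i, v⁆ * ⁅g a i, x⁆ := by
      rw [f8]
      exact comm_mul_of (h.BB_comm (i := i) (k := k) (h.VV_le_BB hvV) hgx.1 hgx.2)
    have f10 : ⁅g a i, v⁆ ∈ h.VV a b := by
      rw [commutatorElement_def]
      refine mul_mem (conj_mem_of_cj (h.VV_inv hab hi hk D' (Subgroup.subset_closure (by simp))) hvV) (inv_mem hvV)
    have f11 : ⁅d, x⁆ * ⁅g a i, x⁆⁻¹ ∈ h.VV a b := by
      have e : ⁅d, x⁆ * ⁅g a i, x⁆⁻¹ = (⁅d, x⁆ * ⁅g a i, w2⁆⁻¹) * ⁅g a i, v⁆ := by rw [f9]; group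
      rw [e]
      exact mul_mem f7 f10
    exact h.VV_inf' (i := i) hab f11 (mul_mem (h.d_BB hab D hxB).2 (inv_mem hgx.2))
  by_contra hcon
  have hinj : Function.Injective (fun x : ↥(T ⊓ L b k) => (⟨_, key x x.2.1 x.2.2⟩ : DD L T a)) := by
    intro x x' hxx
    have h1 : ⁅d, (x : G)⁆ * ⁅g a i, (x : G)⁆⁻¹ = ⁅d, (x' : G)⁆ * ⁅g a i, (x' : G)⁆⁻¹ := congrArg Subtype.val hxx
    by_contra hne
    set z := (x : G) * (x' : G)⁻¹ with hz
    have hz1 : z ≠ 1 := fun h0 => hne (Subtype.ext (mul_inv_eq_one.mp h0))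
    have hzT : z ∈ T := mul_mem x.2.1 (inv_mem x'.2.1)
    have hzL : z ∈ L b k := mul_mem x.2.2 (inv_mem x'.2.2)
    have hx : (x : G) = z * x' := by rw [hz]; group
    rw [hx, h.rmul D hzT hzL x'.2.1 x'.2.2, h.rmul D' hzT hzL x'.2.1 x'.2.2] at h1
    have hA := h.d_BB hab D (h.P_le_BB' ⟨hzT, hzL⟩)
    have hA' := h.d_BB hab D (h.P_le_BB' x'.2)
    have hB := h.d_BB hab D' (h.P_le_BB' ⟨hzT, hzL⟩)
    have hB' := h.d_BB hab D' (h.P_le_BB' x'.2)
    have c1 : ⁅d, z⁆ * ⁅d, (x' : G)⁆ = ⁅d, (x' : G)⁆ * ⁅d, z⁆ := h.comm_P hA.1 hA.2 hA'.1 hA'.2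
    have c2 : ⁅g a i, z⁆ * ⁅g a i, (x' : G)⁆ = ⁅g a i, (x' : G)⁆ * ⁅g a i, z⁆ := h.comm_P hB.1 hB.2 hB'.1 hB'.2
    have h2 : ⁅d, z⁆ = ⁅g a i, z⁆ := by
      rw [c1] at h1
      have h3 : ⁅d, z⁆ * (⁅g a i, z⁆ * ⁅g a i, (x' : G)⁆)⁻¹ = ⁅g a i, (x' : G)⁆⁻¹ := by
        have h4 : ⁅d, (x' : G)⁆ * (⁅d, z⁆ * (⁅g a i, z⁆ * ⁅g a i, (x' : G)⁆)⁻¹) = ⁅d, (x' : G)⁆ * ⁅g a i, (x' : G)⁆⁻¹ := by
          rw [← h1]; group
        exact mul_left_cancel h4
      calc ⁅d, z⁆ = (⁅d, z⁆ * (⁅g a i, z⁆ * ⁅g a i, (x' : G)⁆)⁻¹) * (⁅g a i, z⁆ * ⁅g a i, (x' : G)⁆) := by group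
        _ = ⁅g a i, (x' : G)⁆⁻¹ * (⁅g a i, (x' : G)⁆ * ⁅g a i, z⁆) := by rw [h3, c2]
        _ = _ := by group
    apply hcon
    refine h.mem S D.hS D.TS a i b k hab _ (mul_mem (inv_mem hgS) D.dS) (mul_mem (inv_mem (h.gm a i)) D.dL) z hzT hzL
      hz1 ?_
    have h5 : d * z * d⁻¹ = g a i * z * (g a i)⁻¹ := by
      rw [conj_eq_comm_mul, h2, ← conj_eq_comm_mul]
    calc (g a i)⁻¹ * d * z = (g a i)⁻¹ * (d * z * d⁻¹) * d := by group
      _ = (g a i)⁻¹ * (g a i * z * (g a i)⁻¹) * d := by rw [h5]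
      _ = _ := by group
  have h1 := Nat.card_le_card_of_injective _ hinj
  have h2 := h.card_DD_lt a b k
  omega

end BE

end Cfsg.Agent.OddHalf.D3.BEven
end

-- part: OddHalf/D3/BEven/GrowE
section
set_option linter.all false
open scoped Cfsg.Agent.FastGrp

/-!
# ODD D3 (iii), even centre, `n = 2`, (mv)-world, (beta2): growth, `S₁ = P ∪ g P`
-/

set_option autoImplicit false

namespace Cfsg.Agent.OddHalf.D3.BEven

open Cfsg.Agent.OddHalf.D3.ThreeDefs Cfsg.Agent.OddHalf.D3.ThreeFam Cfsg.Agent.OddHalf.D3.ThreeMain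
  Cfsg.Agent.OddHalf.D3.ThreeEnd
open Cfsg.Agent.OddHalf.D3.BTwo (comm_mem comm_mem' conj_eq_comm_mul comm_eq_one comm_one_of exists_two exists_fix Gd
  comm_mul_of dbl mem_dbl bool_third dich)
open scoped commutatorElement

universe u

variable {G : Type u} [Group G]

namespace BE

variable {L : Bool → Bool → Subgroup G} {T : Subgroup G} {g : Bool → Bool → G}
variable {a b i i' k k' : Bool} {S : Subgroup G} {d : G} [Finite G]

/-- growth -/
theorem growE (h : BE L T g) (h3 : 2 < Nat.card ↥(T ⊓ L a i)) {R : Subgroup G} (hR : IsPGroup 2 R)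
    (hRL : R ≤ L a i) (hRT : ∀ t ∈ T, cj t R = R) (hgR : g a i ∈ R) : ∀ x ∈ R, x ∈ T ∨ (g a i)⁻¹ * x ∈ T := by
  obtain ⟨b, hab⟩ := exists_ne a
  by_contra hcon
  push Not at hcon
  obtain ⟨x0, hx0R, hx0T, hx0g⟩ := hcon
  set c := g a i with hc
  let S := mulSub R T hRT
  have hS : IsPGroup 2 S := isPGroup_mulSub hR h.two
  have hRS : R ≤ S := le_mulSub_left
  have hTS : T ≤ S := le_mulSub_right
  let T1 := dbl T c (h.gT a i) (h.gs a i)
  have hTT1 : T ≤ T1 := fun x hx => Or.inl hx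
  have hT1S : T1 ≤ S := by
    rintro x (hx | hx)
    · exact hTS hx
    · have : x = c * (c⁻¹ * x) := by group
      rw [this]
      exact mul_mem (hRS hgR) (hTS hx)
  obtain ⟨s, hsS, hsT1, hscj⟩ := exists_norm hS hT1S (fun h0 => by
    rcases h0 (hRS hx0R) with h1 | h1
    · exact hx0T h1
    · exact hx0g h1)
  obtain ⟨ρ, hρ, t0, ht0, rfl⟩ := hsS
  have hρT1 : ρ ∉ T1 := fun h0 => hsT1 (mul_mem h0 (hTT1 ht0))
  have hρcj : cj ρ T1 = T1 := by
    have h1 := cj_mul_eq hscj (cj_eq_of_mem (inv_mem (hTT1 ht0)))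
    have e : ρ * t0 * t0⁻¹ = ρ := by group
    rwa [e] at h1
  have hρL : ρ ∈ L a i := hRL hρ
  by_cases hA : (∀ x ∈ T, x ∈ L a i → ρ * x * ρ⁻¹ ∈ T) ∧ (∀ x ∈ T, x ∈ L b i → ρ * x * ρ⁻¹ ∈ T)
  · have D : Gd L T a i b i S ρ := ⟨hS, hTS, hRS hρ, hρL, fun h0 => hρT1 (hTT1 h0), hA.1, hA.2⟩
    exact hρT1 (Or.inr (h.frobE hab D (hRS hgR)))
  · -- an element of `P a i ∪ P b i` which is moved out of `T`
    obtain ⟨t, ht, htc, htn⟩ : ∃ t ∈ T, (∀ b' k' x, x ∈ T → x ∈ L b' k' → t * x = x * t) ∧ ρ * t * ρ⁻¹ ∉ T := by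
      rw [not_and_or] at hA
      push Not at hA
      rcases hA with ⟨t, ht, htL, htn⟩ | ⟨t, ht, htL, htn⟩
      · exact ⟨t, ht, fun b' k' x hx hxL => h.cT ht htL hx hxL, htn⟩
      · exact ⟨t, ht, fun b' k' x hx hxL => h.cT ht htL hx hxL, htn⟩
    have ht1 : c⁻¹ * (ρ * t * ρ⁻¹) ∈ T := by
      have h1 : ρ * t * ρ⁻¹ ∈ T1 := conj_mem_of_cj hρcj (hTT1 ht)
      rcases h1 with h1 | h1
      · exact absurd h1 htn
      · exact h1
    set s := c⁻¹ * ⁅ρ, t⁆ with hs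
    have hsT : s ∈ T := by
      have : s = c⁻¹ * (ρ * t * ρ⁻¹) * t⁻¹ := by rw [hs, commutatorElement_def]; group
      rw [this]
      exact mul_mem ht1 (inv_mem ht)
    have hsL : s ∈ L a i := mul_mem (inv_mem (h.gm a i)) (comm_mem hρL (h.nrm t ht a i))
    -- the key claim
    have hcl2 : ∀ p ∈ T, p ∈ L b i → ρ * p * ρ⁻¹ ∈ T → p = 1 := by
      intro p hp hpL hρp
      set r := ⁅ρ, p⁆ with hr
      have hrT : r ∈ T := by
        rw [hr, commutatorElement_def]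
        exact mul_mem hρp (inv_mem hp)
      have hrL : r ∈ L a i := comm_mem hρL (h.nrm p hp a i)
      have e1 : ρ * p * ρ⁻¹ = r * p := conj_eq_comm_mul ρ p
      have e2 : ρ * t * ρ⁻¹ = c * s * t := by rw [hs, conj_eq_comm_mul]; group
      have e3 : t * p = p * t := htc b i p hp hpL
      have e4 : t * r = r * t := htc a i r hrT hrL
      have e5 : s * p = p * s := h.cT hsT hsL hp hpL
      have e6 : s * r = r * s := h.cT hsT hsL hrT hrL
      have e8 : (c * s * t) * (r * p) = (r * p) * (c * s * t) := by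
        rw [← e1, ← e2]
        calc ρ * t * ρ⁻¹ * (ρ * p * ρ⁻¹) = ρ * (t * p) * ρ⁻¹ := by group
          _ = ρ * (p * t) * ρ⁻¹ := by rw [e3]
          _ = _ := by group
      have e9 : (s * t) * (r * p) = (r * p) * (s * t) := by
        calc (s * t) * (r * p) = s * (t * r) * p := by group
          _ = s * (r * t) * p := by rw [e4]
          _ = (s * r) * (t * p) := by group
          _ = (r * s) * (p * t) := by rw [e6, e3]
          _ = r * (s * p) * t := by group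
          _ = r * (p * s) * t := by rw [e5]
          _ = _ := by group
      have e10 : c * (r * p) = (r * p) * c := by
        have : c * ((s * t) * (r * p)) = (r * p) * c * (s * t) := by
          calc c * ((s * t) * (r * p)) = (c * s * t) * (r * p) := by group
            _ = (r * p) * (c * s * t) := e8
            _ = _ := by group
        rw [e9] at this
        have h1 : c * (r * p) * (s * t) = (r * p) * c * (s * t) := by rw [← this]; group
        exact mul_right_cancel h1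
      have e11 : c * r = r * c := h.g_cent a i hrT hrL
      have e12 : c * p = p * c := by
        have h1 : r * (c * p) = r * (p * c) := by
          calc r * (c * p) = (r * c) * p := by group
            _ = c * (r * p) := by rw [← e11]; group
            _ = r * (p * c) := by rw [e10]; group
        exact mul_left_cancel h1
      exact h.cm_one hab hp hpL (comm_one_of e12)
    have hcl3 : ∀ p ∈ T, p ∈ L b i → p ≠ 1 → ∀ q ∈ T, q ∈ L b i → q ≠ 1 → p = q := by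
      intro p hp hpL hp1 q hq hqL hq1
      have hpT1 : ρ * p * ρ⁻¹ ∈ T1 := conj_mem_of_cj hρcj (hTT1 hp)
      have hqT1 : ρ * q * ρ⁻¹ ∈ T1 := conj_mem_of_cj hρcj (hTT1 hq)
      have hp2 : c⁻¹ * (ρ * p * ρ⁻¹) ∈ T := by
        rcases hpT1 with h1 | h1
        · exact absurd (hcl2 p hp hpL h1) hp1
        · exact h1
      have hq2 : c⁻¹ * (ρ * q * ρ⁻¹) ∈ T := by
        rcases hqT1 with h1 | h1
        · exact absurd (hcl2 q hq hqL h1) hq1
        · exact h1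
      have h5 : ρ * (p * q⁻¹) * ρ⁻¹ ∈ T := by
        have : ρ * (p * q⁻¹) * ρ⁻¹ = c * ((c⁻¹ * (ρ * p * ρ⁻¹)) * (c⁻¹ * (ρ * q * ρ⁻¹))⁻¹) * c⁻¹ := by group
        rw [this]
        exact h.g_conj a i (mul_mem hp2 (inv_mem hq2))
      have h6 := hcl2 (p * q⁻¹) (mul_mem hp (inv_mem hq)) (mul_mem hpL (inv_mem hqL)) h5
      exact mul_inv_eq_one.mp h6
    obtain ⟨p0, hp0, hp01⟩ := h.P_ne b i
    have h7 : ((T ⊓ L b i : Subgroup G) : Set G) ⊆ {1, p0} := by
      intro x hx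
      by_cases hx1 : x = 1
      · left; exact hx1
      · right; exact hcl3 x hx.1 hx.2 hx1 p0 hp0.1 hp0.2 hp01
    have h8 : Nat.card ↥(T ⊓ L b i) ≤ 2 := by
      calc Nat.card ↥(T ⊓ L b i) = ((T ⊓ L b i : Subgroup G) : Set G).ncard := rfl
        _ ≤ ({1, p0} : Set G).ncard := Set.ncard_le_ncard h7 (Set.toFinite _)
        _ ≤ 2 := by
          refine (Set.ncard_insert_le _ _).trans ?_
          rw [Set.ncard_singleton]
    rw [h.card_eq b i a i] at h8
    omega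

/-- **the invariant Sylow subgroup is abelian** -/
theorem abel (h : BE L T g) (h3 : 2 < Nat.card ↥(T ⊓ L a i)) {R : Subgroup G} (hR : IsPGroup 2 R)
    (hRL : R ≤ L a i) (hRT : ∀ t ∈ T, cj t R = R) (hgR : g a i ∈ R) : ∀ x ∈ R, ∀ y ∈ R, x * y = y * x := by
  have hg := h.growE h3 hR hRL hRT hgR
  have hc : ∀ x ∈ R, ∀ p ∈ T, p ∈ L a i → x * p = p * x := by
    intro x hx p hp hpL
    rcases hg x hx with h1 | h1
    · exact h.comm_P h1 (hRL hx) hp hpL
    · have h2 : (g a i)⁻¹ * x ∈ L a i := mul_mem (inv_mem (h.gm a i)) (hRL hx)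
      have h4 := h.comm_P h1 h2 hp hpL
      have h5 := h.g_cent a i hp hpL
      calc x * p = g a i * (((g a i)⁻¹ * x) * p) := by group
        _ = g a i * (p * ((g a i)⁻¹ * x)) := by rw [h4]
        _ = (g a i * p) * ((g a i)⁻¹ * x) := by group
        _ = p * g a i * ((g a i)⁻¹ * x) := by rw [h5]
        _ = p * x := by group
  intro x hx y hy
  rcases hg y hy with h1 | h1
  · exact hc x hx y h1 (hRL hy)
  · have h2 : (g a i)⁻¹ * y ∈ L a i := mul_mem (inv_mem (h.gm a i)) (hRL hy)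
    have h4 := hc x hx _ h1 h2
    -- `x` commutes with `g a i`
    have h5 : x * g a i = g a i * x := by
      rcases hg x hx with h6 | h6
      · exact (h.g_cent a i h6 (hRL hx)).symm
      · have h7 : (g a i)⁻¹ * x ∈ L a i := mul_mem (inv_mem (h.gm a i)) (hRL hx)
        have h8 := h.g_cent a i h6 h7
        calc x * g a i = g a i * (((g a i)⁻¹ * x) * g a i) := by group
          _ = g a i * (g a i * ((g a i)⁻¹ * x)) := by rw [h8]
          _ = _ := by group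
    calc x * y = (x * g a i) * ((g a i)⁻¹ * y) := by group
      _ = g a i * (x * ((g a i)⁻¹ * y)) := by rw [h5]; group
      _ = g a i * (((g a i)⁻¹ * y) * x) := by rw [h4]
      _ = y * x := by group

end BE

end Cfsg.Agent.OddHalf.D3.BEven
end

-- part: OddHalf/D3/BEven/BetaTwo
section
set_option linter.all false
open scoped Cfsg.Agent.FastGrp

/-!
# ODD D3 (iii), even centre, `n = 2`, (mv)-world: (beta2) is impossible
-/

set_option autoImplicit false

namespace Cfsg.Agent.OddHalf.D3.BEven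

open Cfsg Cfsg.Agent.OddHalf.D3.ThreeDefs Cfsg.Agent.OddHalf.D3.ThreeFam Cfsg.Agent.OddHalf.D3.ThreeMain
open Cfsg.Agent.OddHalf.D3.Swap Cfsg.Agent.OddHalf.D3.TwoCfg Cfsg.Agent.OddHalf.D3.TwoNF
open Cfsg.Agent.OddHalf.D3.EvDefs
open Cfsg.Agent.OddHalf.D3.BTwo (dbl mem_dbl)
open Cfsg.Agent.OddHalf.D3.EvSwap (EFam2)
open Cfsg.Agent.OddHalf.D3.EvMax (EFam3 ECfg)

universe u

variable {G : Type u} [Group G]

namespace BE

variable {L : Bool → Bool → Subgroup G} {T : Subgroup G} {g : Bool → Bool → G} [Finite G]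

/-- the `T`-invariant Sylow 2-subgroup of `L a i` containing `g a i` -/
theorem exists_R (h : BE L T g) (a i : Bool) : ∃ R, IsSyl R (L a i) ∧ (∀ t ∈ T, cj t R = R) ∧ g a i ∈ R := by
  obtain ⟨S0, hS0, hTS0, hgS0⟩ := h.exS a i
  let W := dbl T (g a i) (h.gT a i) (h.gs a i)
  have hgW : g a i ∈ W := Or.inr (by rw [inv_mul_cancel]; exact one_mem _)
  have hW : IsPGroup 2 W := by
    refine hS0.to_le ?_
    rintro x (hx | hx)
    · exact hTS0 hx
    · have : x = g a i * ((g a i)⁻¹ * x) := by group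
      rw [this]
      exact mul_mem hgS0 (hTS0 hx)
  have hWL : ∀ w ∈ W, cj w (L a i) = L a i := by
    rintro x (hx | hx)
    · exact h.nrm x hx a i
    · have : x = g a i * ((g a i)⁻¹ * x) := by group
      rw [this]
      exact cj_mul_eq (cj_eq_of_mem (h.gm a i)) (h.nrm _ hx a i)
  obtain ⟨P, hPL, hP, hPn, hPc⟩ := exists_inv_syl hW hWL
  have hS : IsSyl P (L a i) := ⟨hPL, hP, hPc⟩
  refine ⟨P, hS, fun t ht => hPn t (Or.inl ht), ?_⟩
  -- `g ∈ P`
  have hz : ∀ w ∈ Subgroup.zpowers (g a i), cj w P = P := fun w hw =>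
    hPn w ((Subgroup.zpowers_le.mpr hgW) hw)
  have h1 := hS.eq (mulSub_le hPL (Subgroup.zpowers_le.mpr (h.gm a i)))
    (isPGroup_mulSub (h := hz) hP (hW.to_le (Subgroup.zpowers_le.mpr hgW))) le_mulSub_left
  rw [← h1]
  exact le_mulSub_right (Subgroup.mem_zpowers _)

/-- **the end of (beta2)** -/
theorem contra (h : BE L T g) {a i i' : Bool} (hi : i ≠ i') (hp : ⁅L a i, L a i⁆ = L a i) {z : G} (hz : z ∈ T)
    (hz1 : z ∈ L a i) (hz2 : z ∈ L a i') (hzn : z ≠ 1) : False := by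
  obtain ⟨R, hR, hRT, hgR⟩ := h.exists_R a i
  have h3 : 2 < Nat.card ↥(T ⊓ L a i) := by
    have h4 := h.card_DD_lt a a i
    have h5 : 1 < Nat.card (DD L T a) := by
      rw [Finite.one_lt_card_iff_nontrivial]
      exact ⟨⟨⟨z, mem_DD' hi hz hz1 hz2⟩, 1, fun h2 => hzn (congrArg Subtype.val h2)⟩⟩
    omega
  refine EvMax.syl_not_comm hp hR hz1 (h.el a i z hz hz1) hzn ?_ (h.abel h3 hR.2.1 hR.1 hRT hgR)
  exact fun x hx => (h.comm a i i' hi x hx z hz2).symm

end BE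

variable {𝓒 : Set (Set (Subgroup G))} {Q : Subgroup G}

/-- `cj y A = B` maps the class of `A` to the class of `B` -/
theorem cjs_of_cj (F : EFam 𝓒) {Λ Λ' : Set (Subgroup G)} (hΛ : Λ ∈ 𝓒) (hΛ' : Λ' ∈ 𝓒) {A B : Subgroup G} (hA : A ∈ Λ)
    (hB : B ∈ Λ') {y : G} (h : cj y A = B) : cjs y Λ = Λ' := by
  refine F.class_unique (F.conj y Λ hΛ) hΛ' (A := B) ?_ hB
  rw [← h]
  exact cj_mem_cjs hA

/-- the other members -/
theorem cj_other (F : EF2 𝓒) {Λ Λ' : Set (Subgroup G)} (hΛ : Λ ∈ 𝓒) (hΛ' : Λ' ∈ 𝓒) {A A' B B' : Subgroup G}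
    (hA : A ∈ Λ) (hA' : A' ∈ Λ) (hAA : A ≠ A') (hB : B ∈ Λ') (hB' : B' ∈ Λ') (hBB : B ≠ B') {y : G}
    (h : cj y A = B) : cj y A' = B' := by
  have h1 := cjs_of_cj F.toEFam hΛ hΛ' hA hB h
  have h2 : cj y A' ∈ Λ' := by rw [← h1]; exact cj_mem_cjs hA'
  have h3 : cj y A' ≠ B := by
    rw [← h]
    intro h0
    exact hAA (cj_injective y h0).symm
  rcases F.le2 Λ' hΛ' B hB B' hB' (cj y A') h2 with h4 | h4 | h4
  · exact absurd h4 hBB
  · exact absurd h4.symm h3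
  · exact h4.symm

/-- **(beta2) is impossible** -/
theorem beta2_false [Finite G] (F : EF2 𝓒) (C : B2 𝓒 Q) : False := by
  obtain ⟨Λ, hΛ, Λ', hΛ', hne, hQΛ, hQΛ'⟩ := C.ex
  obtain ⟨L1, hL1, L2, hL2, M1, hM1, M2, hM2, hL21, hM21, g1, g2, h1, h2, w1, w2, v1, v2, s1, s2⟩ :=
    exists_conf F C hΛ hΛ' hne hQΛ hQΛ'
  let L : Bool → Bool → Subgroup G := fun a i => bif a then (bif i then M2 else M1) else (bif i then L2 else L1)
  let gg : Bool → Bool → G := fun a i => bif a then (bif i then h2 else h1) else (bif i then g2 else g1)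
  let Cl : Bool → Set (Subgroup G) := fun a => bif a then Λ' else Λ
  have hCl : ∀ a, Cl a ∈ 𝓒 := by intro a; cases a <;> assumption
  have hmem : ∀ a i, L a i ∈ Cl a := by intro a i; cases a <;> cases i <;> assumption
  have hdiff : ∀ a i i', i ≠ i' → L a i ≠ L a i' := by
    intro a i i' hi
    cases a <;> cases i <;> cases i' <;> first | exact absurd rfl hi | exact hL21 | exact Ne.symm hL21 | exact hM21 | exact Ne.symm hM21
  have hCne : ∀ a b, Cl a = Cl b → a = b := by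
    intro a b hab
    cases a <;> cases b <;> first | rfl | exact absurd hab hne | exact absurd hab.symm hne
  have hwit : ∀ a i, Wit Q (L a i) (gg a i) := by intro a i; cases a <;> cases i <;> assumption
  have hQ : ∀ a, Q ≤ Nm (Cl a) := by intro a; cases a <;> assumption
  have hgcomm : ∀ a i i', i ≠ i' → gg a i * gg a i' = gg a i' * gg a i := by
    intro a i i' hi
    exact F.comm (Cl a) (hCl a) (L a i) (hmem a i) (L a i') (hmem a i') (hdiff a i i' hi) _ (hwit a i).mem _ (hwit a i').mem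
  have hsw : ∀ a b, a ≠ b → cj (gg b false * gg b true) (L a false) = L a true := by
    intro a b hab
    cases a <;> cases b <;> first | exact absurd rfl hab | exact s1 | exact s2
  have hother : ∀ i : Bool, ∃ i', i ≠ i' := fun i => BE.exists_ne i
  -- an element of `Q ∩ L b k` centralises the other member
  have hQC : ∀ b k k', k ≠ k' → ∀ x ∈ Q, x ∈ L b k → x ∈ QC Q (L b k') := by
    intro b k k' hk x hx hxL
    exact inf_le_QC F.toEFam (hCl b) (hmem b k') (hmem b k) (hdiff b k k' hk) (Subgroup.mem_inf.mpr ⟨hx, hxL⟩)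
  have B : BE L Q gg := by
    refine { comm := ?_, inj := ?_, dis := ?_, fus := ?_, mem := ?_, two := C.pg, nrm := ?_, el := ?_, nz := ?_,
             prod := ?_, gm := ?_, gT := ?_, gn := ?_, gs := ?_, sw := ?_ }
    · intro a i i' hi
      exact F.comm (Cl a) (hCl a) (L a i) (hmem a i) (L a i') (hmem a i') (hdiff a i i' hi)
    · intro a i b k h0
      have hab : a = b := hCne a b (F.class_unique (hCl a) (hCl b) (hmem a i) (by rw [h0]; exact hmem b k))
      subst hab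
      refine ⟨rfl, ?_⟩
      by_contra hik
      exact hdiff a i k hik h0
    · intro a i b k hab x hx hxa hxb
      obtain ⟨k', hk⟩ := hother k
      exact tri_QC F.toEFam C.pg (hCl a) (hCl b) (fun h0 => hab (hCne a b h0)) (hmem a i) (hmem b k') x
        (hQC b k k' hk x hx hxb) hxa
    · intro a i b k x y hx hxa hx1 hy i'
      obtain ⟨n, hn2, hn1⟩ := exists_pow_inv C.pg hx hx1
      have hu : InU (cjs y (Cl a)) (y * x ^ n * y⁻¹) :=
        (F.inU_of_mem (hCl a) (hmem a i) (pow_mem hxa n) hn2 hn1).conj y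
      have hv : InU (Cl b) (y * x ^ n * y⁻¹) := by
        refine F.inU_of_mem (hCl b) (hmem b k) ?_ hu.1 hu.2.1
        rw [← conj_pow]; exact pow_mem hy n
      have e : cjs y (Cl a) = Cl b := F.uniq _ (F.conj y _ (hCl a)) _ (hCl b) _ hu hv
      have h3 : cj y (L a i') ∈ Cl b := by rw [← e]; exact cj_mem_cjs (hmem a i')
      rcases F.le2 (Cl b) (hCl b) (L b false) (hmem b false) (L b true) (hmem b true) _ h3 with h4 | h4 | h4
      · exact absurd h4 (hdiff b false true (by decide))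
      · exact ⟨false, h4.symm⟩
      · exact ⟨true, h4.symm⟩
    · intro S hS hQS a i b k hab d hd hdL x hx hxL hx1 hdx
      obtain ⟨k', hk⟩ := hother k
      exact C.mem_of_comm F.toEFam (hCl a) (hCl b) (fun h0 => hab (hCne a b h0)) (hQ a) (hQ b) (hmem a i) (hmem b k') hS
        hQS hd hdL (hQC b k k' hk x hx hxL) hx1 hdx
    · intro t ht a i
      exact hQ a ht (L a i) (hmem a i)
    · intro a i x hx hxL
      exact C.el (Cl a) (hCl a) (hQ a) (L a i) (hmem a i) x hx hxL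
    · intro a i i' hi
      obtain ⟨x, hx, hxL, hxn⟩ := C.nz (Cl a) (hCl a) (hQ a) (L a i) (hmem a i)
      refine ⟨x, hx, hxL, fun h0 => hxn ?_⟩
      exact (C.mem_D F.toEFam (hCl a) (hQ a) (hmem a i) (hmem a i') (Ne.symm (hdiff a i i' hi)) hx).mp ⟨hxL, h0⟩
    · intro a i i' b k hab hi x hx hxL y hy hyL hxy
      exact eq_one_of_prod' F.toEFam C (hCl a) (hCl b) (fun h0 => hab (hCne a b h0)) (hQ a) (hQ b) (hmem a i) (hmem a i')
        (Ne.symm (hdiff a i i' hi)) (hmem b k) hx hxL hy hyL hxy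
    · exact fun a i => (hwit a i).mem
    · exact fun a i => (hwit a i).norm
    · exact fun a i => (hwit a i).not
    · exact fun a i => (hwit a i).sq
    · intro a b hab k k' hk i i' hi
      have e : gg b k * gg b k' = gg b false * gg b true := by
        cases k <;> cases k'
        · exact absurd rfl hk
        · rfl
        · exact hgcomm b true false (by decide)
        · exact absurd rfl hk
      rw [e]
      cases i <;> cases i'
      · exact absurd rfl hi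
      · exact hsw a b hab
      · exact cj_other F (hCl a) (hCl a) (hmem a false) (hmem a true) (hdiff a _ _ (by decide)) (hmem a true) (hmem a false)
          (hdiff a _ _ (by decide)) (hsw a b hab)
      · exact absurd rfl hi
  obtain ⟨z, hz, hzQ, hz1⟩ := C.zc Λ hΛ hQΛ
  obtain ⟨e1, e2⟩ := (C.mem_D F.toEFam hΛ hQΛ hL1 hL2 hL21 hzQ).mpr hz
  exact B.contra (a := false) (i := false) (i' := true) (by decide)
    (EvDiag.perfect_iff.mpr (F.qs Λ hΛ L1 hL1).1) hzQ e1 e2 hz1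

/-! ### From `EFam3` and `ECfg` -/

theorem ef2_of (F : EFam 𝓒) (h2 : ∀ Λ ∈ 𝓒, AtMostTwo Λ) : EF2 𝓒 := ⟨F, h2⟩

theorem mw_of [Finite G] (F : EFam3 𝓒) (C : ECfg 𝓒 Q) : MW 𝓒 Q where
  pg := C.pg
  mx := C.mx
  ex := C.ex
  wit := fun _ hc hQc _ hA => EvMax.wit F C hc hQc hA
  mv := fun _ hc _ hd hcd hQc hQd _ hA _ w => EvMax.wit_mv F C hc hd hcd hQc hQd hA w
  zc := fun c hc hQc => by
    obtain ⟨z, hz, hz1, hzQ⟩ := C.inv c hc hQc
    exact ⟨z, hz, hzQ, hz1⟩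

/-- (beta2), literal form -/
theorem beta2_false' [Finite G] (F : EFam3 𝓒) (C : ECfg 𝓒 Q) (h2 : ∀ Λ ∈ 𝓒, AtMostTwo Λ)
    (el : ∀ c ∈ 𝓒, Q ≤ Nm c → ∀ A ∈ c, ∀ x ∈ Q, x ∈ A → x * x = 1)
    (nz : ∀ c ∈ 𝓒, Q ≤ Nm c → ∀ A ∈ c, ∃ x ∈ Q, x ∈ A ∧ x ∉ Zc c) : False :=
  beta2_false (ef2_of F.toEFam h2) ⟨mw_of F C, el, nz⟩

end Cfsg.Agent.OddHalf.D3.BEven
end

-- part: OddHalf/D3/BEven/Kill
section
set_option linter.all false

/-!
# ODD D3 (iii), even centre: the configuration does not exist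
-/

set_option autoImplicit false

namespace Cfsg.Agent.OddHalf.D3.BEven

open Cfsg.Agent.OddHalf.D3.EvMax (EFam3 ECfg)

universe u

/-- **kill** -/
theorem kill {G : Type u} [Group G] [Finite G] {𝓒 : Set (Set (Subgroup G))} {Q : Subgroup G} (F : EFam3 𝓒)
    (C : ECfg 𝓒 Q) : False :=
  Split.kill_of F C fun h2 el nz => beta2_false' F C h2 el nz

end Cfsg.Agent.OddHalf.D3.BEven
end
end
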